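/-
Direct decompositions respected by fusion, without generation by involutions.
-/
import Cfsg.Agent.Loc.SK4
set_option autoImplicit false
set_option linter.unusedSectionVars false

namespace CF.Kz
open Subgroup Cfsg CF.BG CF.Sig CF.GW CF.Ab2 CF.SC2
open CF.ZD (LM LM_le mem_LM LM_le_iff LM_mono)
open CF.Loc (ncl le_ncl ncl_le ncl_le_iff ncl_le_of_le le_normalizer_ncl map_ncl cj_le_ncl)
open CF.Cl2 (ncl_normal)
open scoped commutatorElement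

universe u v
variable {G : Type u} {G' : Type*} [Group G] [Finite G] [Group G'] [Finite G']
variable {A B D E H K L M N P Q S T U V W X Y Z : Subgroup G} {a b d e g k s t u v w x y z : G} {f : G →* G'}

variable {ι : Type v} {I : Set ι} {R c : ι → Subgroup G} {i j : ι}

/-- a direct decomposition of a strongly closed subgroup respected by fusion -/
structure Dd (X B : Subgroup G) (I : Set ι) (R c : ι → Subgroup G) : Prop extends SK B X where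
  rb : ∀ {i}, i ∈ I → R i ≤ B
  cb : ∀ {i}, i ∈ I → c i ≤ B
  sup : ∀ {i}, i ∈ I → B ≤ R i ⊔ c i
  cm : ∀ {i}, i ∈ I → R i ≤ 𝐂 (c i)
  ne : ∀ {i j}, i ∈ I → j ∈ I → i ≠ j → R j ≤ c i
  inf : ∀ d ∈ B, (∀ i ∈ I, d ∈ c i) → d = 1
  na : ∀ {i}, i ∈ I → ∃ s ∈ R i, ∃ t ∈ R i, Iv s ∧ Iv t ∧ s * t ≠ t * s
  fus : ∀ g ∈ X, ∀ i ∈ I, ∃ j ∈ I, ∀ d ∈ B, g * d * g⁻¹ ∈ B →
    (d ∈ R i → g * d * g⁻¹ ∈ R j) ∧ (d ∈ c i → g * d * g⁻¹ ∈ c j)

namespace Dd
variable (h : Dd X B I R c)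
include h

theorem ri (hi : i ∈ I) (a : d ∈ R i) (b : d ∈ c i) : d = 1 :=
  h.inf d (h.rb hi a) fun j hj => (eq_or_ne j i).elim (fun e => e ▸ b) fun e => h.ne hj hi e a

theorem uq (hi : i ∈ I) (hj : j ∈ I) (a : d ∈ R i) (b : d ∈ R j) (n : d ≠ 1) : i = j :=
  by_contra fun e => n (h.ri hi a (h.ne hi hj e b))

theorem dec (hi : i ∈ I) (hd : d ∈ B) : ∃ r ∈ R i, ∃ y ∈ c i, r * y = d :=
  (mem_sup_norm (norm_of_cent (h.cm hi))).1 (h.sup hi hd)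

theorem cmm (hi : i ∈ I) (a : x ∈ R i) (b : y ∈ c i) : x * y = y * x := (h.cm hi a y b).symm

/-- an element of `B` centralizing `x y` centralizes both components -/
theorem cmp (hi : i ∈ I) (a : x ∈ R i) (b : y ∈ c i) (hd : d ∈ B) (e : d * (x * y) = x * y * d) : d * x = x * d := by
  obtain ⟨r, hr, z, hz, rfl⟩ := h.dec hi hd
  have k : x⁻¹ * (r * x * r⁻¹) = y * (z * y * z⁻¹)⁻¹ := by
    have e1 : r * z * (x * y) * (r * z)⁻¹ = r * x * r⁻¹ * (z * y * z⁻¹) := by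
      calc _ = r * (z * x) * (y * z⁻¹) * r⁻¹ := by group
        _ = r * x * (z * y * z⁻¹ * r⁻¹) := by rw [← h.cmm hi a hz]; group
        _ = _ := by rw [← h.cmm hi (inv_mem hr) (cmem hz b)]; group
    rw [e, mul_inv_cancel_right] at e1
    rw [inv_mul_eq_iff_eq_mul, ← mul_assoc, e1, mul_inv_cancel_right]
  have := h.ri hi (mul_mem (inv_mem a) (cmem hr a)) (k ▸ mul_mem b (inv_mem (cmem hz b)))
  rw [inv_mul_eq_one, eq_mul_inv_iff_mul_eq] at this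
  rw [mul_assoc, ← h.cmm hi a hz, ← mul_assoc, ← this, mul_assoc]

protected theorem map (o : Od f.ker) :
    Dd (X.map f) (B.map f) I (fun i => (R i).map f) fun i => (c i).map f := by
  refine ⟨h.toSK.map f, fun hi => map_mono (h.rb hi), fun hi => map_mono (h.cb hi),
    fun hi => (map_mono (h.sup hi)).trans (map_sup _ _ f).le, fun hi => map_cent (h.cm hi) f,
    fun hi hj n => map_mono (h.ne hi hj n), ?_, fun hi => ?_, ?_⟩
  · rintro _ ⟨d, hd, rfl⟩ k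
    rw [h.inf d hd fun i hi => mem_od o h.pi (h.cb hi) hd (k i hi), map_one]
  · obtain ⟨s, hs, t, ht, is, it, n⟩ := h.na hi
    have q : ∀ {s}, s ∈ R _ → Iv s → Iv (f s) := fun hs is => .mk' (fun e => is.ne_one (inj_od o h.pi (h.rb hi hs)
      (one_mem _) (e.trans f.map_one.symm))) (by rw [← map_mul, is.sq, map_one])
    exact ⟨_, mem_map_of_mem f hs, _, mem_map_of_mem f ht, q hs is, q ht it, fun e => n (inj_od o h.pi
      (h.rb hi (mul_mem hs ht)) (h.rb hi (mul_mem ht hs)) (by rwa [map_mul, map_mul]))⟩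
  rintro _ ⟨g, hg, rfl⟩ i hi
  have n : X ≤ 𝐍 (X ⊓ f.ker) := norm_inf (le_norm_self _) le_normalizer_of_normal
  obtain ⟨k, hk, e⟩ := exists_cj_le_of_le_sup (h.le.trans n) (inf_le_right : cj g B ⊓ (X ⊓ f.ker ⊔ B) ≤ _)
    (cop2 ((h.pi.cj g).le inf_le_left) (o.le inf_le_right)) (.inl ((h.pi.cj g).le inf_le_left).sol)
  obtain ⟨j, hj, q⟩ := h.fus _ (mul_mem hk.1 hg) i hi
  refine ⟨j, hj, ?_⟩
  rintro _ ⟨d, hd, rfl⟩ ⟨b, hb, m⟩
  have m' : k * g * d * (k * g)⁻¹ ∈ B := mem_of_eq (e (conj_mem_cj.2 (mi (conj_mem_cj.2 hd) (mem_of_eq (mul_mem_sup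
    (mi (mul_mem (cmem hg (h.le hd)) (inv_mem (h.le hb))) (show f _ = 1 by simp [m])) hb) (by group))))) (by group)
  have e' : f (k * g * d * (k * g)⁻¹) = f g * f d * (f g)⁻¹ := by simp [show f k = 1 from hk.2]
  exact ⟨fun a => ⟨_, (q d hd m').1 (mem_od o h.pi (h.rb hi) hd a), e'⟩,
    fun a => ⟨_, (q d hd m').2 (mem_od o h.pi (h.cb hi) hd a), e'⟩⟩

theorem top : Dd ⊤ (B.subgroupOf X) I (fun i => (R i).subgroupOf X) fun i => (c i).subgroupOf X := by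
  have v := X.subtype_injective
  refine ⟨h.toSK.top, fun hi _ a => h.rb hi a, fun hi _ a => h.cb hi a, fun hi => ?_,
    fun hi _ a _ b => Subtype.ext (h.cm hi a _ b), fun hi hj n _ a => h.ne hi hj n a,
    fun d a b => Subtype.ext (h.inf d a b), fun hi => ?_, fun g _ i hi =>
      (h.fus g g.2 i hi).imp fun j a => ⟨a.1, fun d => a.2 d⟩⟩
  · rw [← subgroupOf_sup ((h.rb hi).trans h.le) ((h.cb hi).trans h.le)]; exact fun _ a => h.sup hi a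
  · obtain ⟨s, hs, t, ht, is, it, n⟩ := h.na hi
    exact ⟨⟨s, h.le (h.rb hi hs)⟩, hs, ⟨t, h.le (h.rb hi ht)⟩, ht, (iv_map_iff v).1 is, (iv_map_iff v).1 it,
      fun e => n (congrArg Subtype.val e)⟩

theorem reduce (k : ∀ (G : Type u) [Group G] [Finite G] (B : Subgroup G) (R c : ι → Subgroup G),
    𝒪 (⊤ : Subgroup G) = ⊥ → Dd ⊤ B I R c → Cm ⊤ B I R c) : Cm X B I R c := fun i hi => by
  have d := h.top.map od_ker
  rw [bar_top] at d
  have := k _ _ _ _ O_bar d i hi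
  rw [O_bar, ← bar_top, ← map_ncl, ← map_ncl, ← map_ncl,
    ← map_commutator, le_bot_iff, Subgroup.map_eq_bot_iff, QuotientGroup.ker_mk', oddCore, pPrimeCore_eq p2] at this
  have := map_mono (f := X.subtype) this
  rwa [map_commutator, map_ncl _ ((c i).subgroupOf X), map_ncl, map_ncl, map_O _ _ X.subtype_injective, map_top_subtype, map_subgroupOf h.le,
    map_subgroupOf ((h.rb hi).trans h.le), map_subgroupOf ((h.cb hi).trans h.le)] at this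

variable (hj : j ∈ I) (he : e ∈ R j) (e1 : e ≠ 1)
include hj he e1

theorem fix (hg : g ∈ X) (hi : i ∈ I) (m : g * e * g⁻¹ ∈ R i) (hd : d ∈ B) (n : g * d * g⁻¹ ∈ B) :
    (d ∈ R j → g * d * g⁻¹ ∈ R i) ∧ (d ∈ c j → g * d * g⁻¹ ∈ c i) := by
  obtain ⟨l, hl, q⟩ := h.fus g hg j hj
  obtain rfl := h.uq hl hi ((q e (h.rb hj he) (h.rb hi m)).1 he) m (conj_ne_one e1 g)
  exact q d hd n

theorem fix' (hg : g ∈ X ⊓ 𝐂₁ e) (hd : d ∈ B) (n : g * d * g⁻¹ ∈ B) :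
    (d ∈ R j → g * d * g⁻¹ ∈ R j) ∧ (d ∈ c j → g * d * g⁻¹ ∈ c j) :=
  h.fix hj he e1 hg.1 hj (by rwa [mem_cent1.1 hg.2, mul_inv_cancel_right]) hd n

theorem cc : c j ≤ B ⊓ 𝐂₁ e := le_inf (h.cb hj) (le_cent1_iff.2 (h.cm hj he))

variable (fl : SK (B ⊓ 𝐂₁ e) (X ⊓ 𝐂₁ e))
include fl

theorem skR : SK (R j ⊓ 𝐂₁ e) (X ⊓ 𝐂₁ e) := fl.sub (inf_le_inf_right _ (h.rb hj)) fun _ a _ hg n =>
  ⟨(h.fix' hj he e1 hg (h.rb hj a.1) n.1).1 a.1, n.2⟩

theorem skc : SK (c j) (X ⊓ 𝐂₁ e) := fl.sub (h.cc hj he e1) fun _ a _ hg n =>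
  (h.fix' hj he e1 hg (h.cb hj a) n.1).2 a

theorem sub : Dd (X ⊓ 𝐂₁ e) (c j) (I \ {j}) R fun i => c i ⊓ c j := by
  have r : ∀ {i}, i ∈ I \ {j} → R i ≤ c j := fun hi => h.ne hj hi.1 (Ne.symm hi.2)
  refine ⟨h.skc hj he e1 fl, r, fun _ => inf_le_right, fun hi => ?_, fun hi => (h.cm hi.1).trans (cent_anti inf_le_left),
    fun hi hl n => le_inf (h.ne hi.1 hl.1 n) (r hl), fun d a b => h.inf d (h.cb hj a) fun i hi =>
      (eq_or_ne i j).elim (fun q => q ▸ a) fun q => (b i ⟨hi, q⟩).1, fun hi => h.na hi.1, fun g hg i hi => ?_⟩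
  · rw [← BG.sup_inf_left (r hi) (.inl (norm_of_cent (h.cm hi.1)))]
    exact le_inf ((h.cb hj).trans (h.sup hi.1)) le_rfl
  obtain ⟨l, hl, q⟩ := h.fus g hg.1 i hi.1
  have m : g * e * g⁻¹ = e := by rw [mem_cent1.1 hg.2, mul_inv_cancel_right]
  refine ⟨l, ⟨hl, fun a => e1 (h.ri hj he ?_)⟩, fun d a b => ⟨(q d (h.cb hj a) (h.cb hj b)).1,
    fun n => ⟨(q d (h.cb hj a) (h.cb hj b)).2 n.1, b⟩⟩⟩
  exact a ▸ m ▸ (q e (h.rb hj he) (m.symm ▸ h.rb hj he)).2 (h.ne hi.1 hj hi.2 he)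
end Dd

end CF.Kz
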